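import Mathlib
import Cfsg.Agent.Lib.Helper31.OTSM.Defs

/-!
# OTSM (S5987) package [NUMEV1M]: the arithmetic criterion, `i` even, `i ≤ m`
-/

set_option autoImplicit false

namespace Cfsg.Agent.Lib.Helper10.OTSM

open Cfsg.Agent.Lib.Helper31.OTSM

/-- Comparing `i X + r` with `i Y + r'` for small remainders. -/
theorem lemK (i X Y r r' : ℕ) (hr : r ≤ 2 * i) (hr' : r' < i) :
    i * X + r ≤ i * Y + r' ↔ (X + 2 ≤ Y ∨ (X + 1 = Y ∧ r ≤ i + r') ∨ (X = Y ∧ r ≤ r')) := by
  rcases Nat.lt_or_ge Y X with h | h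
  · have h1 : i * (Y + 1) ≤ i * X := Nat.mul_le_mul_left i h
    rw [Nat.mul_add, Nat.mul_one] at h1
    constructor <;> intro h2 <;> omega
  · rcases Nat.eq_or_lt_of_le h with h | h
    · subst h
      constructor <;> intro h2 <;> omega
    · rcases Nat.eq_or_lt_of_le h with h' | h'
      · subst h'
        rw [Nat.mul_succ]
        constructor <;> intro h2 <;> omega
      · have h1 : i * (X + 2) ≤ i * Y := Nat.mul_le_mul_left i h'
        rw [Nat.mul_add] at h1
        constructor <;> intro h2 <;> omega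

theorem lemLe (i x y r : ℕ) (hr : r < i) : i * x ≤ i * y + r ↔ x ≤ y := by
  have h := lemK i x y 0 r (by omega) hr
  simp only [Nat.add_zero] at h
  rw [h]
  omega

theorem lemEq (i x y r : ℕ) (hr : r < i) : i * x = i * y + r ↔ x = y ∧ r = 0 := by
  have h1 := lemLe i x y r hr
  have h2 := lemK i y x r 0 (by omega) (by omega)
  simp only [Nat.add_zero] at h2
  constructor
  · intro h
    have a1 : x ≤ y := h1.mp (le_of_eq h)
    have a2 := h2.mp (le_of_eq h.symm)
    omega
  · rintro ⟨rfl, rfl⟩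
    rfl

theorem condIff (i a b n ρ m d j S ε : ℕ) (hm : m = i * a + b) (hb : b < i)
    (hd : 2 * d = i * n + ρ) (hρ : ρ < i) (hjn : j ≤ n) (hε : ε ≤ 2) :
    (∃ s, s ≤ S ∧ i * s ≤ m ∧ 2 * (m - i * s) + ε ≤ 2 * d - i * j) ↔
    (∃ s, s ≤ S ∧ s ≤ a ∧ (j + 2 * a + 2 ≤ n + 2 * s ∨
      (j + 2 * a + 1 = n + 2 * s ∧ 2 * b + ε ≤ i + ρ) ∨
      (j + 2 * a = n + 2 * s ∧ 2 * b + ε ≤ ρ))) := by
  apply exists_congr
  intro s
  apply and_congr_right
  intro _
  have h1 : i * s ≤ m ↔ s ≤ a := by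
    rw [hm]
    exact lemLe i s a b hb
  have hK := lemK i (j + 2 * a) (n + 2 * s) (2 * b + ε) ρ (by omega) hρ
  have e1 : i * (j + 2 * a) = i * j + 2 * (i * a) := by ring
  have e2 : i * (n + 2 * s) = i * n + 2 * (i * s) := by ring
  rw [e1, e2] at hK
  have hij : i * j ≤ i * n := Nat.mul_le_mul_left i hjn
  constructor
  · rintro ⟨h2, h3⟩
    exact ⟨h1.mp h2, hK.mp (by omega)⟩
  · rintro ⟨h2, h3⟩
    have h4 := hK.mpr h3
    have h5 := h1.mpr h2
    exact ⟨h5, by omega⟩

theorem pkgNumEv1M : PkgNumEv1M := by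
  intro i m d t hie hi2 him hmd ht
  obtain ⟨c, hc⟩ := hie
  have hi0 : 0 < i := by omega
  have hm : m = i * (m / i) + m % i := (Nat.div_add_mod m i).symm
  have hb : m % i < i := Nat.mod_lt m hi0
  have hd : 2 * d = i * ((2 * d) / i) + (2 * d) % i := (Nat.div_add_mod (2 * d) i).symm
  have hρ : (2 * d) % i < i := Nat.mod_lt _ hi0
  have ha1 : 1 ≤ m / i := Nat.div_pos him hi0
  generalize m / i = a at *
  generalize m % i = b at *
  generalize (2 * d) / i = n at *
  generalize (2 * d) % i = ρ at *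
  have hρev : ρ % 2 = 0 := by
    have h0 : i * n = 2 * (c * n) := by
      rw [hc]
      ring
    omega
  have hn2a := (lemK i (2 * a) n (2 * b + 2) ρ (by omega) hρ).mp (by
    have e : i * (2 * a) = 2 * (i * a) := by ring
    rw [e]
    omega)
  have key : AllEvM i m d t ↔ ∀ j, 1 ≤ j → j ≤ n → (j = n → ρ = 0 → j % 2 = 1) →
      ∃ s, s ≤ (j + 1 - t) / 2 ∧ s ≤ a ∧ (j + 2 * a + 2 ≤ n + 2 * s ∨
        (j + 2 * a + 1 = n + 2 * s ∧ 2 * b + (if Even j then 2 else 0) ≤ i + ρ) ∨
        (j + 2 * a = n + 2 * s ∧ 2 * b + (if Even j then 2 else 0) ≤ ρ)) := by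
    unfold AllEvM CondEvM
    apply forall_congr'
    intro j
    apply imp_congr_right
    intro _
    have hle : i * j ≤ 2 * d ↔ j ≤ n := by
      rw [hd]
      exact lemLe i j n ρ hρ
    have heq : i * j = 2 * d ↔ j = n ∧ ρ = 0 := by
      rw [hd]
      exact lemEq i j n ρ hρ
    rw [hle, heq]
    apply imp_congr_right
    intro hjn
    have hε : (if Even j then 2 else 0 : ℕ) ≤ 2 := by
      split_ifs <;> omega
    rw [condIff i a b n ρ m d j ((j + 1 - t) / 2) _ hm hb hd hρ hjn hε, Nat.odd_iff, and_imp]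
  rw [key]
  simp only [Nat.even_iff, Nat.odd_iff]
  constructor
  · intro hAll
    obtain ⟨s1, hs1, hs1a, D1⟩ := hAll (n - 1) (by omega) (by omega) (by intros; omega)
    have hA : t + 2 * a ≤ n := by
      split_ifs at D1
      all_goals omega
    refine ⟨hA, ?_⟩
    rcases Nat.mod_two_eq_zero_or_one n with hpar | hpar
    · by_cases hρ0 : ρ = 0
      · obtain ⟨s3, hs3, hs3a, D3⟩ := hAll t ht (by omega) (by intros; omega)
        left
        split_ifs at D1 D3 <;> omega
      · obtain ⟨s2, hs2, hs2a, D2⟩ := hAll n (by omega) le_rfl (by intros; omega)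
        right
        right
        split_ifs at D2 <;> omega
    · obtain ⟨s2, hs2, hs2a, D2⟩ := hAll n (by omega) le_rfl (by intros; omega)
      right
      left
      split_ifs at D2 <;> omega
  · rintro ⟨hA, hB⟩ j hj1 hjn hjodd
    rcases Nat.le_total ((j + 1 - t) / 2) a with h | h
    · refine ⟨(j + 1 - t) / 2, le_rfl, h, ?_⟩
      split_ifs <;> omega
    · refine ⟨a, h, le_rfl, ?_⟩
      split_ifs <;> omega

end Cfsg.Agent.Lib.Helper10.OTSM
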